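import Mathlib

set_option autoImplicit false
set_option linter.unusedSectionVars false
set_option linter.unusedVariables false
set_option linter.unusedSimpArgs false
set_option linter.style.haveILetI false
set_option maxHeartbeats 400000

universe u

namespace Groth.Agent.Lib.Helper6.Glue

/-- The data of the gluing problem. -/
structure Setup (A' A B' : Type u) [CommRing A'] [CommRing A] [Algebra A' A] [CommRing B'] where
  hinj : Function.Injective (algebraMap A' A)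
  f : A'
  hf : ∀ x : A, algebraMap A' A f * x = 0 → x = 0
  c : ℕ
  hc : ∀ a : A, ∃ a' : A', algebraMap A' A a' = algebraMap A' A f ^ c * a
  n : ℕ
  hn : 2 * c + 1 ≤ n
  g : B'
  hg : g ∈ nonZeroDivisors B'
  φ' : (A' ⧸ Ideal.span {f ^ n}) ≃+* (B' ⧸ Ideal.span {g ^ n})
  hφ' : φ' (Ideal.Quotient.mk _ f) = Ideal.Quotient.mk _ g

namespace Setup

variable {A' A B' : Type u} [CommRing A'] [CommRing A] [Algebra A' A] [CommRing B']
  (D : Setup A' A B')

/-- The image of `f` in `A`. -/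
abbrev F : A := algebraMap A' A D.f

/-- The localization `B'_g`. -/
abbrev L : Type u := Localization.Away D.g

/-- The map `B' → B'_g`. -/
noncomputable abbrev ι : B' →+* D.L := algebraMap B' D.L

/-- The image of `g` in `B'_g`. -/
noncomputable abbrev G : D.L := algebraMap B' D.L D.g

/-- Reduction mod `f ^ n`. -/
abbrev mkA : A' →+* A' ⧸ Ideal.span {D.f ^ D.n} := Ideal.Quotient.mk _

/-- Reduction mod `g ^ n`. -/
abbrev mkB : B' →+* B' ⧸ Ideal.span {D.g ^ D.n} := Ideal.Quotient.mk _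

lemma F_pow_mul_eq_zero (k : ℕ) (x : A) (h : D.F ^ k * x = 0) : x = 0 := by
  induction k generalizing x with
  | zero => simpa using h
  | succ k ih =>
    apply D.hf
    apply ih
    rw [← mul_assoc, ← pow_succ]
    exact h

lemma F_cancel (k : ℕ) (x y : A) (h : D.F ^ k * x = D.F ^ k * y) : x = y := by
  have : D.F ^ k * (x - y) = 0 := by rw [mul_sub, h, sub_self]
  exact sub_eq_zero.mp (D.F_pow_mul_eq_zero k _ this)

lemma ι_inj : Function.Injective D.ι :=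
  IsLocalization.injective D.L (M := Submonoid.powers D.g) (Submonoid.powers_le.mpr D.hg)

lemma G_isUnit : IsUnit D.G := IsLocalization.Away.algebraMap_isUnit D.g

lemma G_cancel (k : ℕ) (x y : D.L) (h : x * D.G ^ k = y * D.G ^ k) : x = y :=
  (D.G_isUnit.pow k).mul_left_injective h

lemma mkB_eq_iff (x y : B') : D.mkB x = D.mkB y ↔ ∃ d, x = y + d * D.g ^ D.n := by
  rw [Ideal.Quotient.eq, Ideal.mem_span_singleton']
  constructor
  · rintro ⟨d, hd⟩
    exact ⟨d, by rw [hd]; ring⟩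
  · rintro ⟨d, hd⟩
    exact ⟨d, by rw [hd]; ring⟩

lemma mkA_eq_iff (x y : A') : D.mkA x = D.mkA y ↔ ∃ d, x = y + d * D.f ^ D.n := by
  rw [Ideal.Quotient.eq, Ideal.mem_span_singleton']
  constructor
  · rintro ⟨d, hd⟩
    exact ⟨d, by rw [hd]; ring⟩
  · rintro ⟨d, hd⟩
    exact ⟨d, by rw [hd]; ring⟩

lemma exists_liftA (b : B') : ∃ a' : A', D.φ' (D.mkA a') = D.mkB b := by
  obtain ⟨q, hq⟩ := D.φ'.surjective (D.mkB b)
  obtain ⟨a', rfl⟩ := Ideal.Quotient.mk_surjective q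
  exact ⟨a', hq⟩

lemma exists_liftB (a' : A') : ∃ b : B', D.mkB b = D.φ' (D.mkA a') :=
  Ideal.Quotient.mk_surjective _

lemma φ'_f_pow (k : ℕ) (a' : A') :
    D.φ' (D.mkA (D.f ^ k * a')) = D.mkB (D.g ^ k) * D.φ' (D.mkA a') := by
  rw [map_mul, map_mul, map_pow, map_pow, D.hφ', map_pow]

/-- Membership in the ideal `J` of `B'` corresponding to `I = f ^ c A`. -/
def PJ (j : B') : Prop :=
  ∃ (a' : A') (a : A), algebraMap A' A a' = D.F ^ D.c * a ∧ D.φ' (D.mkA a') = D.mkB j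

lemma PJ_zero : D.PJ 0 := ⟨0, 0, by simp, by simp⟩

lemma PJ_add {x y : B'} (hx : D.PJ x) (hy : D.PJ y) : D.PJ (x + y) := by
  obtain ⟨a1, b1, h1, e1⟩ := hx
  obtain ⟨a2, b2, h2, e2⟩ := hy
  exact ⟨a1 + a2, b1 + b2, by rw [map_add, h1, h2, mul_add], by rw [map_add, map_add, e1, e2, map_add]⟩

lemma PJ_neg {x : B'} (hx : D.PJ x) : D.PJ (-x) := by
  obtain ⟨a1, b1, h1, e1⟩ := hx
  exact ⟨-a1, -b1, by rw [map_neg, h1, mul_neg], by rw [map_neg, map_neg, e1, map_neg]⟩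

lemma PJ_gc_mul (b : B') : D.PJ (D.g ^ D.c * b) := by
  obtain ⟨a0, h0⟩ := D.exists_liftA b
  refine ⟨D.f ^ D.c * a0, algebraMap A' A a0, by rw [map_mul, map_pow], ?_⟩
  rw [D.φ'_f_pow, h0, map_mul]

lemma PJ_pow_mul (m : ℕ) (hm : D.c ≤ m) (b : B') : D.PJ (D.g ^ m * b) := by
  obtain ⟨k, rfl⟩ := Nat.exists_eq_add_of_le hm
  rw [pow_add, mul_assoc]
  exact D.PJ_gc_mul _

lemma PJ_mul {x y : B'} (hx : D.PJ x) (hy : D.PJ y) : ∃ z, D.PJ z ∧ x * y = D.g ^ D.c * z := by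
  obtain ⟨a1, b1, h1, e1⟩ := hx
  obtain ⟨a2, b2, h2, e2⟩ := hy
  obtain ⟨a3, h3⟩ := D.hc (b1 * b2)
  have h12 : a1 * a2 = D.f ^ D.c * a3 := by
    apply D.hinj
    rw [map_mul, map_mul, map_pow, h1, h2, h3]
    ring
  obtain ⟨j0, hj0⟩ := D.exists_liftB a3
  have hmk : D.mkB (x * y) = D.mkB (D.g ^ D.c * j0) := by
    rw [map_mul, ← e1, ← e2, ← map_mul, ← map_mul, h12, D.φ'_f_pow, map_mul, hj0]
  obtain ⟨d, hd⟩ := (D.mkB_eq_iff _ _).mp hmk
  have hcn : D.c ≤ D.n - D.c := by have := D.hn; omega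
  refine ⟨j0 + D.g ^ (D.n - D.c) * d, D.PJ_add ⟨a3, b1 * b2, h3, hj0.symm⟩ (D.PJ_pow_mul _ hcn d), ?_⟩
  have hpow : D.g ^ D.n = D.g ^ D.c * D.g ^ (D.n - D.c) := by
    rw [← pow_add]; congr 1; have := D.hn; omega
  rw [hd, hpow]
  ring

/-- The ring `B = g ^ (-c) J` inside `B'_g`. -/
def Bsub : Subring D.L where
  carrier := {y | ∃ j, D.PJ j ∧ y * D.G ^ D.c = D.ι j}
  mul_mem' := by
    rintro y1 y2 ⟨j1, hj1, e1⟩ ⟨j2, hj2, e2⟩
    obtain ⟨z, hz, hz2⟩ := D.PJ_mul hj1 hj2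
    refine ⟨z, hz, ?_⟩
    apply D.G_cancel D.c
    have : D.ι (j1 * j2) = D.G ^ D.c * D.ι z := by rw [hz2, map_mul, map_pow]
    rw [map_mul, ← e1, ← e2] at this
    linear_combination this
  one_mem' := ⟨D.g ^ D.c * 1, D.PJ_gc_mul 1, by rw [one_mul, mul_one, map_pow]⟩
  add_mem' := by
    rintro y1 y2 ⟨j1, hj1, e1⟩ ⟨j2, hj2, e2⟩
    exact ⟨j1 + j2, D.PJ_add hj1 hj2, by rw [add_mul, e1, e2, map_add]⟩
  zero_mem' := ⟨0, D.PJ_zero, by rw [zero_mul, map_zero]⟩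
  neg_mem' := by
    rintro y ⟨j, hj, e⟩
    exact ⟨-j, D.PJ_neg hj, by rw [neg_mul, e, map_neg]⟩

lemma mem_Bsub {y : D.L} : y ∈ D.Bsub ↔ ∃ j, D.PJ j ∧ y * D.G ^ D.c = D.ι j := Iff.rfl

lemma ι_mem (b : B') : D.ι b ∈ D.Bsub :=
  ⟨D.g ^ D.c * b, D.PJ_gc_mul b, by rw [map_mul, map_pow]; ring⟩

/-- The structure map `B' → B`. -/
noncomputable def ιB : B' →+* D.Bsub := D.ι.codRestrict D.Bsub D.ι_mem

noncomputable instance algB : Algebra B' D.Bsub := D.ιB.toAlgebra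

lemma coe_algebraMap (b : B') : ((algebraMap B' D.Bsub b : D.Bsub) : D.L) = D.ι b := rfl

lemma algebraMap_injective : Function.Injective (algebraMap B' D.Bsub) := by
  intro x y h
  apply D.ι_inj
  rw [← D.coe_algebraMap, ← D.coe_algebraMap, h]

/-- `g` as an element of `B`. -/
noncomputable abbrev gB : D.Bsub := algebraMap B' D.Bsub D.g

lemma coe_gB : ((D.gB : D.Bsub) : D.L) = D.G := rfl

end Setup

end Groth.Agent.Lib.Helper6.Glue
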