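import Mathlib
import Groth.Agent.Lib.Helper6.Glue.GlueA

set_option autoImplicit false
set_option linter.unusedSectionVars false
set_option linter.unusedVariables false
set_option linter.unusedSimpArgs false
set_option linter.style.haveILetI false
set_option maxHeartbeats 400000

universe u

namespace Groth.Agent.Lib.Helper6.Glue

namespace Setup

variable {A' A B' : Type u} [CommRing A'] [CommRing A] [Algebra A' A] [CommRing B']
  (D : Setup A' A B')

lemma exists_frac (j : B') (hj : D.PJ j) : ∃ y : D.Bsub, (y : D.L) * D.G ^ D.c = D.ι j := by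
  obtain ⟨u, hu⟩ := D.G_isUnit.pow D.c
  refine ⟨⟨D.ι j * ↑u⁻¹, j, hj, ?_⟩, ?_⟩
  · rw [← hu, mul_assoc, Units.inv_mul, mul_one]
  · show D.ι j * ↑u⁻¹ * D.G ^ D.c = D.ι j
    rw [← hu, mul_assoc, Units.inv_mul, mul_one]

lemma pow_split (k : ℕ) (hk : k ≤ D.n) : D.g ^ D.n = D.g ^ (D.n - k) * D.g ^ k := by
  rw [← pow_add]; congr 1; omega

lemma G_pow_split (k : ℕ) (hk : k ≤ D.n) : D.G ^ D.n = D.G ^ (D.n - k) * D.G ^ k := by
  rw [← pow_add]; congr 1; omega

/-- `B` is a finite `B'`-module. -/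
theorem finite_B (r : ℕ) (s : Fin r → A) (hs : Submodule.span A' (Set.range s) = ⊤) :
    Module.Finite B' D.Bsub := by
  choose a' ha' using fun k => D.hc (s k)
  choose j hj using fun k => D.exists_liftB (a' k)
  have hPJ : ∀ k, D.PJ (j k) := fun k => ⟨a' k, s k, ha' k, (hj k).symm⟩
  choose yk hyk using fun k => D.exists_frac (j k) (hPJ k)
  refine Module.finite_def.mpr (Submodule.fg_def.mpr
    ⟨insert (1 : D.Bsub) (Set.range yk), (Set.finite_range yk).insert 1, ?_⟩)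
  rw [eq_top_iff]
  rintro y -
  obtain ⟨j0, ⟨a0', a0, h0, e0⟩, hy⟩ := y.2
  have ha0 : a0 ∈ Submodule.span A' (Set.range s) := by rw [hs]; trivial
  obtain ⟨α, hα⟩ := (Submodule.mem_span_range_iff_exists_fun A').mp ha0
  have h1 : a0' = ∑ k, α k * a' k := by
    apply D.hinj
    rw [h0, ← hα, map_sum, Finset.mul_sum]
    refine Finset.sum_congr rfl fun k _ => ?_
    rw [map_mul, ha' k, Algebra.smul_def]
    ring
  choose β hβ using fun k => D.exists_liftB (α k)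
  have h2 : D.mkB j0 = D.mkB (∑ k, β k * j k) := by
    rw [← e0, h1, map_sum, map_sum, map_sum]
    refine Finset.sum_congr rfl fun k _ => ?_
    rw [map_mul, map_mul, map_mul, hβ k, hj k]
  obtain ⟨d, hd⟩ := (D.mkB_eq_iff _ _).mp h2
  have hcn : D.c ≤ D.n := by have := D.hn; omega
  have key : y = ∑ k, β k • yk k + (d * D.g ^ (D.n - D.c)) • (1 : D.Bsub) := by
    apply Subtype.ext
    apply D.G_cancel D.c
    rw [hy, hd]
    simp only [Subring.coe_add, AddSubmonoidClass.coe_finsetSum, Algebra.smul_def, Subring.coe_mul,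
      D.coe_algebraMap, Subring.coe_one, mul_one, add_mul, Finset.sum_mul, map_add, map_sum, map_mul,
      map_pow, SubmonoidClass.coe_pow]
    congr 1
    · refine Finset.sum_congr rfl fun k _ => ?_
      rw [mul_assoc, hyk k]
    · rw [D.G_pow_split D.c hcn]
      ring
  rw [key]
  refine Submodule.add_mem _ (Submodule.sum_mem _ fun k _ => Submodule.smul_mem _ _
    (Submodule.subset_span (Or.inr ⟨k, rfl⟩))) (Submodule.smul_mem _ _
    (Submodule.subset_span (Or.inl rfl)))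

/-- The relation "`y` represents the image of `a`". -/
def Rel (a : A) (y : D.Bsub) : Prop :=
  ∃ (a' : A') (j : B') (y0 w : D.Bsub), algebraMap A' A a' = D.F ^ D.c * a ∧
    D.φ' (D.mkA a') = D.mkB j ∧ (y0 : D.L) * D.G ^ D.c = D.ι j ∧ y = y0 + w * D.gB

lemma rel_exists (a : A) : ∃ y, D.Rel a y := by
  obtain ⟨a', ha'⟩ := D.hc a
  obtain ⟨j, hj⟩ := D.exists_liftB a'
  obtain ⟨y, hy⟩ := D.exists_frac j ⟨a', a, ha', hj.symm⟩
  exact ⟨y, a', j, y, 0, ha', hj.symm, hy, by rw [zero_mul, add_zero]⟩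

lemma rel_surj (y : D.Bsub) : ∃ a, D.Rel a y := by
  obtain ⟨j, ⟨a', a, h, e⟩, hy⟩ := y.2
  exact ⟨a, a', j, y, 0, h, e, hy, by rw [zero_mul, add_zero]⟩

lemma rel_uniq {a : A} {y1 y2 : D.Bsub} (h1 : D.Rel a y1) (h2 : D.Rel a y2) :
    y1 - y2 ∈ Ideal.span {D.gB} := by
  obtain ⟨a1, j1, z1, w1, ha1, e1, c1, r1⟩ := h1
  obtain ⟨a2, j2, z2, w2, ha2, e2, c2, r2⟩ := h2
  have ha : a1 = a2 := D.hinj (by rw [ha1, ha2])
  subst ha
  obtain ⟨d, hd⟩ := (D.mkB_eq_iff j1 j2).mp (by rw [← e1, ← e2])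
  have hcn : D.c + 1 ≤ D.n := by have := D.hn; omega
  have hz : z1 - z2 = algebraMap B' D.Bsub (d * D.g ^ (D.n - (D.c + 1))) * D.gB := by
    apply Subtype.ext
    apply D.G_cancel D.c
    simp only [AddSubgroupClass.coe_sub, Subring.coe_mul, D.coe_algebraMap, map_mul, map_pow, sub_mul, c1,
      c2, hd, map_add, SubmonoidClass.coe_pow]
    have := D.G_pow_split (D.c + 1) hcn
    rw [pow_succ] at this
    rw [this]
    ring
  rw [Ideal.mem_span_singleton']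
  refine ⟨algebraMap B' D.Bsub (d * D.g ^ (D.n - (D.c + 1))) + w1 - w2, ?_⟩
  rw [r1, r2]
  linear_combination (-1 : D.Bsub) * hz

lemma rel_zero : D.Rel 0 0 :=
  ⟨0, 0, 0, 0, by simp, by simp, by simp, by simp⟩

lemma rel_one : D.Rel 1 1 := by
  refine ⟨D.f ^ D.c, D.g ^ D.c, 1, 0, by rw [map_pow, mul_one], ?_, ?_, by rw [zero_mul, add_zero]⟩
  · have := D.φ'_f_pow D.c 1
    rw [mul_one, map_one, map_one, mul_one] at this
    exact this
  · rw [Subring.coe_one, one_mul, map_pow]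

lemma rel_add {a1 a2 : A} {y1 y2 : D.Bsub} (h1 : D.Rel a1 y1) (h2 : D.Rel a2 y2) :
    D.Rel (a1 + a2) (y1 + y2) := by
  obtain ⟨a1', j1, z1, w1, ha1, e1, c1, r1⟩ := h1
  obtain ⟨a2', j2, z2, w2, ha2, e2, c2, r2⟩ := h2
  refine ⟨a1' + a2', j1 + j2, z1 + z2, w1 + w2, by rw [map_add, ha1, ha2, mul_add],
    by rw [map_add, map_add, e1, e2, map_add], by rw [Subring.coe_add, add_mul, c1, c2, map_add], ?_⟩
  rw [r1, r2]; ring

lemma rel_neg {a : A} {y : D.Bsub} (h : D.Rel a y) : D.Rel (-a) (-y) := by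
  obtain ⟨a', j, z, w, ha, e, c, r⟩ := h
  refine ⟨-a', -j, -z, -w, by rw [map_neg, ha, mul_neg],
    by rw [map_neg, map_neg, e, map_neg], by rw [Subring.coe_neg, neg_mul, c, map_neg], ?_⟩
  rw [r]; ring

lemma rel_mul {a1 a2 : A} {y1 y2 : D.Bsub} (h1 : D.Rel a1 y1) (h2 : D.Rel a2 y2) :
    D.Rel (a1 * a2) (y1 * y2) := by
  obtain ⟨a1', j1, z1, w1, ha1, e1, c1, r1⟩ := h1
  obtain ⟨a2', j2, z2, w2, ha2, e2, c2, r2⟩ := h2
  obtain ⟨a3, h3⟩ := D.hc (a1 * a2)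
  have h12 : a1' * a2' = D.f ^ D.c * a3 := by
    apply D.hinj
    rw [map_mul, map_mul, map_pow, ha1, ha2, h3]
    ring
  obtain ⟨j0, hj0⟩ := D.exists_liftB a3
  have hmk : D.mkB (j1 * j2) = D.mkB (D.g ^ D.c * j0) := by
    rw [map_mul, ← e1, ← e2, ← map_mul, ← map_mul, h12, D.φ'_f_pow, map_mul, hj0]
  obtain ⟨d, hd⟩ := (D.mkB_eq_iff _ _).mp hmk
  have hcn : 2 * D.c + 1 ≤ D.n := D.hn
  have hG : D.G ^ D.n = D.G ^ (D.n - (2 * D.c + 1)) * D.G * D.G ^ D.c * D.G ^ D.c := by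
    rw [D.G_pow_split (2 * D.c + 1) hcn, pow_succ, two_mul, pow_add]
    ring
  refine ⟨a3, j0, z1 * z2 - algebraMap B' D.Bsub (d * D.g ^ (D.n - (2 * D.c + 1))) * D.gB,
    algebraMap B' D.Bsub (d * D.g ^ (D.n - (2 * D.c + 1))) + z1 * w2 + w1 * z2 + w1 * w2 * D.gB,
    h3, hj0.symm, ?_, ?_⟩
  · apply D.G_cancel D.c
    have h4 : D.ι (j1 * j2) = D.ι (D.g ^ D.c * j0 + d * D.g ^ D.n) := by rw [hd]
    rw [map_mul, ← c1, ← c2, map_add, map_mul, map_mul, map_pow, map_pow, hG] at h4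
    simp only [AddSubgroupClass.coe_sub, Subring.coe_mul, D.coe_algebraMap, map_mul, map_pow, D.coe_gB,
      SubmonoidClass.coe_pow]
    linear_combination h4
  · rw [r1, r2]
    ring

lemma rel_gB : D.Rel D.F D.gB := by
  refine ⟨D.f ^ D.c * D.f, D.g ^ D.c * D.g, D.gB, 0, by rw [map_mul, map_pow], ?_, ?_,
    by rw [zero_mul, add_zero]⟩
  · rw [D.φ'_f_pow, D.hφ', map_mul]
  · rw [D.coe_gB, map_mul, map_pow]; ring

lemma rel_compat (a' : A') (b' : B') (h : D.φ' (D.mkA a') = D.mkB b') :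
    D.Rel (algebraMap A' A a') (algebraMap B' D.Bsub b') := by
  refine ⟨D.f ^ D.c * a', D.g ^ D.c * b', algebraMap B' D.Bsub b', 0, by rw [map_mul, map_pow], ?_, ?_,
    by rw [zero_mul, add_zero]⟩
  · rw [D.φ'_f_pow, h, map_mul]
  · rw [D.coe_algebraMap, map_mul, map_pow]; ring

lemma rel_ker {a : A} {y : D.Bsub} (h : D.Rel a y) (hy : y ∈ Ideal.span {D.gB}) :
    a ∈ Ideal.span {D.F} := by
  obtain ⟨a', j, z, w, ha, e, c, r⟩ := h
  obtain ⟨v, hv⟩ := Ideal.mem_span_singleton'.mp hy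
  have hz : z = (v - w) * D.gB := by rw [sub_mul, hv, r]; ring
  obtain ⟨ju, ⟨au', au, hau, eu⟩, hu⟩ := (v - w).2
  have hj : j = ju * D.g := by
    apply D.ι_inj
    rw [← c, hz, Subring.coe_mul, D.coe_gB, map_mul, ← hu]
    ring
  have hmk : D.mkA a' = D.mkA (au' * D.f) := by
    apply D.φ'.injective
    rw [e, hj, map_mul, map_mul, map_mul, eu, D.hφ']
  obtain ⟨d, hd⟩ := (D.mkA_eq_iff _ _).mp hmk
  have hcn : D.c + 1 ≤ D.n := by have := D.hn; omega
  have hF : D.F ^ D.n = D.F ^ (D.n - (D.c + 1)) * D.F * D.F ^ D.c := by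
    rw [← pow_succ, ← pow_add]; congr 1; omega
  rw [Ideal.mem_span_singleton']
  refine ⟨au + algebraMap A' A d * D.F ^ (D.n - (D.c + 1)), ?_⟩
  apply D.F_cancel D.c
  rw [← ha, hd, map_add, map_mul, map_mul, map_pow, hau, hF]
  ring

end Setup

end Groth.Agent.Lib.Helper6.Glue
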