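import Mathlib
import Groth.Agent.Lib.Helper6.Glue.GlueB

set_option autoImplicit false
set_option linter.unusedSectionVars false
set_option linter.unusedVariables false
set_option linter.unusedSimpArgs false
set_option linter.style.haveILetI false
set_option maxHeartbeats 400000

universe u

namespace Groth.Agent.Lib.Helper6.Glue

namespace Setup

variable {A' A B' : Type u} [CommRing A'] [CommRing A] [Algebra A' A] [CommRing B']
  (D : Setup A' A B')

/-- The quotient `B / g B`. -/
abbrev Bq : Type u := D.Bsub ⧸ Ideal.span {D.gB}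

/-- The map `A → B / g B` as a function. -/
noncomputable def psiFun (a : A) : D.Bq :=
  Ideal.Quotient.mk _ (Classical.choose (D.rel_exists a))

lemma psiFun_eq {a : A} {y : D.Bsub} (h : D.Rel a y) : D.psiFun a = Ideal.Quotient.mk _ y := by
  unfold psiFun
  rw [Ideal.Quotient.eq]
  exact D.rel_uniq (Classical.choose_spec (D.rel_exists a)) h

/-- The ring map `A → B / g B`. -/
noncomputable def psi : A →+* D.Bq where
  toFun := D.psiFun
  map_one' := by rw [D.psiFun_eq D.rel_one, map_one]
  map_mul' a b := by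
    rw [D.psiFun_eq (D.rel_mul (Classical.choose_spec (D.rel_exists a))
      (Classical.choose_spec (D.rel_exists b))), map_mul]
    rfl
  map_zero' := by rw [D.psiFun_eq D.rel_zero, map_zero]
  map_add' a b := by
    rw [D.psiFun_eq (D.rel_add (Classical.choose_spec (D.rel_exists a))
      (Classical.choose_spec (D.rel_exists b))), map_add]
    rfl

lemma psi_eq {a : A} {y : D.Bsub} (h : D.Rel a y) : D.psi a = Ideal.Quotient.mk _ y :=
  D.psiFun_eq h

lemma psi_F : D.psi D.F = 0 := by
  rw [D.psi_eq D.rel_gB, Ideal.Quotient.eq_zero_iff_mem]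
  exact Ideal.mem_span_singleton_self _

lemma psi_ker (a : A) (h : D.psi a = 0) : a ∈ Ideal.span {D.F} := by
  have hr := Classical.choose_spec (D.rel_exists a)
  rw [D.psi_eq hr, Ideal.Quotient.eq_zero_iff_mem] at h
  exact D.rel_ker hr h

/-- The induced map `A / f A → B / g B`. -/
noncomputable def phi0 : (A ⧸ Ideal.span {D.F}) →+* D.Bq :=
  Ideal.Quotient.lift _ D.psi (by
    intro a ha
    obtain ⟨x, rfl⟩ := Ideal.mem_span_singleton'.mp ha
    rw [map_mul, D.psi_F, mul_zero])

lemma phi0_mk (a : A) : D.phi0 (Ideal.Quotient.mk _ a) = D.psi a := rfl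

lemma phi0_bijective : Function.Bijective D.phi0 := by
  constructor
  · rw [injective_iff_map_eq_zero]
    intro q hq
    obtain ⟨a, rfl⟩ := Ideal.Quotient.mk_surjective q
    rw [D.phi0_mk] at hq
    exact Ideal.Quotient.eq_zero_iff_mem.mpr (D.psi_ker a hq)
  · intro q
    obtain ⟨y, rfl⟩ := Ideal.Quotient.mk_surjective q
    obtain ⟨a, ha⟩ := D.rel_surj y
    exact ⟨Ideal.Quotient.mk _ a, by rw [D.phi0_mk, D.psi_eq ha]⟩

/-- The isomorphism `A / f A ≃ B / g B`. -/
noncomputable def phi : (A ⧸ Ideal.span {D.F}) ≃+* D.Bq :=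
  RingEquiv.ofBijective D.phi0 D.phi0_bijective

lemma phi_compat (a' : A') (b' : B') (h : D.φ' (D.mkA a') = D.mkB b') :
    D.phi (Ideal.Quotient.mk _ (algebraMap A' A a')) =
      Ideal.Quotient.mk _ (algebraMap B' D.Bsub b') := by
  have : D.phi (Ideal.Quotient.mk _ (algebraMap A' A a')) =
      D.phi0 (Ideal.Quotient.mk _ (algebraMap A' A a')) := rfl
  rw [this, D.phi0_mk, D.psi_eq (D.rel_compat a' b' h)]

end Setup

/-- Step 0: a uniform power of `f` carries `A` into `A'`. -/
theorem exists_conductor_pow (A' A : Type u) [CommRing A'] [CommRing A] [Algebra A' A]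
    [Module.Finite A' A] (f : A')
    (hf : algebraMap A' A f ∈ nonZeroDivisors A)
    (hloc : Function.Surjective (IsLocalization.Away.map (Localization.Away f)
      (Localization.Away (algebraMap A' A f)) (algebraMap A' A) f)) :
    ∃ c : ℕ, ∀ a : A, ∃ a' : A', algebraMap A' A a' = algebraMap A' A f ^ c * a := by
  have hcancel : ∀ (k : ℕ) (x y : A), algebraMap A' A f ^ k * x = algebraMap A' A f ^ k * y → x = y := by
    intro k x y h
    have hk : algebraMap A' A f ^ k ∈ nonZeroDivisors A := pow_mem hf k
    have : algebraMap A' A f ^ k * (x - y) = 0 := by rw [mul_sub, h, sub_self]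
    exact sub_eq_zero.mp ((mul_left_mem_nonZeroDivisors_eq_zero_iff hk).mp this)
  -- each element is carried into `A'` by some power
  have h1 : ∀ a : A, ∃ (k : ℕ) (a' : A'), algebraMap A' A a' = algebraMap A' A f ^ k * a := by
    intro a
    obtain ⟨x, hx⟩ := hloc (algebraMap A (Localization.Away (algebraMap A' A f)) a)
    obtain ⟨⟨a', s⟩, hs⟩ := IsLocalization.surj (Submonoid.powers f) x
    obtain ⟨k, hk⟩ := s.2
    have h2 := congrArg (IsLocalization.Away.map (Localization.Away f)
      (Localization.Away (algebraMap A' A f)) (algebraMap A' A) f) hs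
    simp only [IsLocalization.Away.map, map_mul, IsLocalization.map_eq] at h2
    rw [show IsLocalization.map (Localization.Away (algebraMap A' A f)) (algebraMap A' A) _ x =
      algebraMap A (Localization.Away (algebraMap A' A f)) a from hx, ← map_mul,
      IsLocalization.eq_iff_exists (Submonoid.powers (algebraMap A' A f))] at h2
    obtain ⟨⟨t, m, rfl⟩, ht⟩ := h2
    refine ⟨k, a', ?_⟩
    have := hcancel m _ _ ht
    rw [← this, ← hk, map_pow]
    ring
  obtain ⟨r, s, hs⟩ := Module.Finite.exists_fin (R := A') (M := A)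
  choose k a' hk using fun i => h1 (s i)
  refine ⟨Finset.univ.sup k, fun a => ?_⟩
  have ha : a ∈ Submodule.span A' (Set.range s) := by rw [hs]; trivial
  obtain ⟨α, rfl⟩ := (Submodule.mem_span_range_iff_exists_fun A').mp ha
  refine ⟨∑ i, α i * (f ^ (Finset.univ.sup k - k i) * a' i), ?_⟩
  rw [map_sum, Finset.mul_sum]
  refine Finset.sum_congr rfl fun i _ => ?_
  have hle : k i ≤ Finset.univ.sup k := Finset.le_sup (Finset.mem_univ i)
  rw [map_mul, map_mul, map_pow, hk i, Algebra.smul_def, ← mul_assoc (_ ^ _), ← pow_add,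
    Nat.sub_add_cancel hle]
  ring

end Groth.Agent.Lib.Helper6.Glue
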