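import Mathlib
import Groth.Agent.Lib.Helper6.Glue.GlueC

set_option autoImplicit false
set_option linter.unusedSectionVars false
set_option linter.unusedVariables false
set_option linter.unusedSimpArgs false
set_option linter.style.haveILetI false
set_option maxHeartbeats 400000

universe u

namespace Groth.Agent.Lib.Helper6.Glue

theorem glue_finite_extension (A' A : Type u) [CommRing A'] [CommRing A] [Algebra A' A]
    (hinj : Function.Injective (algebraMap A' A)) [Module.Finite A' A] (f : A')
    (hf : algebraMap A' A f ∈ nonZeroDivisors A)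
    (hloc : Function.Bijective (IsLocalization.Away.map (Localization.Away f)
      (Localization.Away (algebraMap A' A f)) (algebraMap A' A) f)) :
    ∃ n₀ : ℕ, 0 < n₀ ∧ ∀ n : ℕ, n₀ ≤ n →
      ∀ (B' : Type u) [CommRing B'] (g : B'), g ∈ nonZeroDivisors B' →
        ∀ φ' : (A' ⧸ Ideal.span {f ^ n}) ≃+* (B' ⧸ Ideal.span {g ^ n}),
        φ' (Ideal.Quotient.mk (Ideal.span {f ^ n}) f) = Ideal.Quotient.mk (Ideal.span {g ^ n}) g →
        ∃ (B : Type u) (_ : CommRing B) (_ : Algebra B' B),
          Function.Injective (algebraMap B' B) ∧ Module.Finite B' B ∧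
          ∃ φ : (A ⧸ Ideal.span {algebraMap A' A f}) ≃+* (B ⧸ Ideal.span {algebraMap B' B g}),
            ∀ (a' : A') (b' : B'),
              φ' (Ideal.Quotient.mk (Ideal.span {f ^ n}) a') = Ideal.Quotient.mk (Ideal.span {g ^ n}) b' →
              φ (Ideal.Quotient.mk (Ideal.span {algebraMap A' A f}) (algebraMap A' A a')) =
                Ideal.Quotient.mk (Ideal.span {algebraMap B' B g}) (algebraMap B' B b') := by
  obtain ⟨c, hc⟩ := exists_conductor_pow A' A f hf hloc.2
  obtain ⟨r, s, hs⟩ := Module.Finite.exists_fin (R := A') (M := A)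
  refine ⟨2 * c + 1, by omega, ?_⟩
  intro n hn B' _ g hg φ' hφ'
  let D : Setup A' A B' :=
    { hinj := hinj, f := f,
      hf := fun x hx => (mul_left_mem_nonZeroDivisors_eq_zero_iff hf).mp hx,
      c := c, hc := hc, n := n, hn := hn, g := g, hg := hg, φ' := φ', hφ' := hφ' }
  exact ⟨↥D.Bsub, inferInstance, D.algB, D.algebraMap_injective, D.finite_B r s hs, D.phi,
    fun a' b' h => D.phi_compat a' b' h⟩

end Groth.Agent.Lib.Helper6.Glue
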